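import Cfsg.Agent.H56.Exc.Auto_m3
import Cfsg.Agent.S4319
import Cfsg.Agent.Prune
set_option linter.all false
prune_inst 0x7f00000000000000000000000000000000000000000000000000000000000000000000000000000000000000000000000000000000000000000000000000000000000000000000000000000000000000003fffffffffffffffffffffffffffbeffbdffffffff
open scoped Cfsg.Agent.FastGrp

/-!
# Coprime automorphisms of prime order with cyclic fixed points (helper563)

`cycFixSolv` : a finite group with an automorphism of prime order `s`, `s` prime to the group order, whose fixed points
lie in a cyclic subgroup, is solvable (from S4319).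
-/

set_option autoImplicit false

namespace Cfsg.Agent.H563.KG

open Cfsg.Agent.H56.Exc

universe u

theorem cycFixSolv : CycFixSolv.{u} := by
  intro G _ _ f s hs hf hsG hC
  obtain ⟨C, hCc, hC⟩ := hC
  let A : Subgroup (MulAut G) := Subgroup.zpowers f
  have hA : Nat.card A ∣ s := by
    rw [Nat.card_zpowers]
    exact orderOf_dvd_of_pow_eq_one hf
  have hcop : (Nat.card G).Coprime (Nat.card A) :=
    Nat.Coprime.coprime_dvd_right hA ((Nat.Prime.coprime_iff_not_dvd hs).2 hsG).symm
  have hle : FixedPoints.subgroup A G ≤ C := by
    intro x hx
    apply hC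
    exact hx ⟨f, Subgroup.mem_zpowers f⟩
  have hcyc : IsCyclic ↥(FixedPoints.subgroup A G) :=
    isCyclic_of_injective (Subgroup.inclusion hle) (Subgroup.inclusion_injective hle)
  have hnil : Group.IsNilpotent ↥(FixedPoints.subgroup A G) := by
    let _ := IsCyclic.commGroup (α := ↥(FixedPoints.subgroup A G))
    infer_instance
  exact Cfsg.Agent.S4319.result (A := A) (G := G) hcop (Or.inl hnil)

end Cfsg.Agent.H563.KG
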