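import Cfsg.Agent.H946.KZ.Gap
import Cfsg.Agent.H563.KG.CycFix
import Cfsg.Agent.OrdDiv.Table
import Cfsg.Agent.S0000
import Cfsg.Agent.Prune
set_option linter.all false
prune_inst 0x7f00000000000000000000000000000000000000000000000000000000000000000000000000000000000000000000000000000000000000000000000000000000000000000000000000000000000000003fffffffffffffffffffffffffffbeffbdffffffff

/-!
# The K theorems without hypotheses (helper563)

For `hT : IsNamed (.e6 q) T` (`T` in any universe) and a subgroup `B` of `T` whose index is divisible by no primitive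
prime divisor of the listed classes: `B = ⊤`. Classes: `full_e6` 9, 12; `full_te6` 18, 12; `full_e7a` 9, 14;
`full_e7b` 18, 7; `full_f4` 12, 8; `full_e8` 20, 24.
-/

set_option autoImplicit false

namespace Cfsg.Agent.H563.KG

open Cfsg Cfsg.Agent.OrdDiv Cfsg.Agent.H436 Cfsg.Agent.H56.Exc

theorem cf : CF := fun _ _ _ _ => Cfsg.Agent.S0000.result

section

variable {T : Type*} [Group T] {q : ℕ} (B : Subgroup T)

end

end Cfsg.Agent.H563.KG
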